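import Cfsg.Agent.Fusion.NormalSubgroup
import Cfsg.Agent.Fusion.Saturation
import Cfsg.Agent.Fusion.Alperin
import Cfsg.Agent.Fusion.ModelExist
import Cfsg.Agent.FusionFactor.Elementary
import Cfsg.Agent.FusionWeakEmb.Basic

/-!
# Fusion systems over Heisenberg-like groups

If `[S,S] ≤ Z(S)`, centralizers of noncentral elements are abelian and every noncentral element has
all of `Z(S)` as commutators, then a proper centric radical subgroup is `C_S(x)` for a noncentral
`x`, its automizer fixes no nontrivial subgroup of `Z(S)`, and a system with nontrivial core is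
constrained.
-/

set_option autoImplicit false

namespace CfsgLib.FusionHeisenberg

open Cfsg Cfsg.FusionSystem CfsgLib.Fusion CfsgLib.FusionWeakEmb

/-- The group-theoretic hypotheses. -/
structure IsHeisenbergLike (G : Type*) [Group G] : Prop where
  comm_mem : ∀ a b : G, a * b * a⁻¹ * b⁻¹ ∈ Subgroup.center G
  centralizer_comm : ∀ x : G, x ∉ Subgroup.center G → ∀ a b : G, a * x = x * a → b * x = x * b →
    a * b = b * a
  surj : ∀ x : G, x ∉ Subgroup.center G → ∀ z ∈ Subgroup.center G, ∃ s : G, s * x * s⁻¹ * x⁻¹ = z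

theorem IsHeisenbergLike.congr {G H : Type*} [Group G] [Group H] (e : G ≃* H)
    (h : IsHeisenbergLike G) : IsHeisenbergLike H := by
  have hz : ∀ x : G, e x ∈ Subgroup.center H ↔ x ∈ Subgroup.center G := fun x => by
    simp only [Subgroup.mem_center_iff]
    exact ⟨fun hx g => e.injective (by simpa using hx (e g)), fun hx g => by
      obtain ⟨g, rfl⟩ := e.surjective g
      rw [← map_mul, ← map_mul, hx g]⟩
  refine ⟨fun a b => ?_, fun x hx a b ha hb => ?_, fun x hx z hzc => ?_⟩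
  · obtain ⟨a, rfl⟩ := e.surjective a
    obtain ⟨b, rfl⟩ := e.surjective b
    simpa [← hz] using h.comm_mem a b
  · obtain ⟨a, rfl⟩ := e.surjective a
    obtain ⟨b, rfl⟩ := e.surjective b
    obtain ⟨x, rfl⟩ := e.surjective x
    rw [← map_mul, ← map_mul, h.centralizer_comm x (mt (hz x).2 hx) a b
      (e.injective (by simpa using ha)) (e.injective (by simpa using hb))]
  · obtain ⟨x, rfl⟩ := e.surjective x
    obtain ⟨z, rfl⟩ := e.surjective z
    obtain ⟨s, hs⟩ := h.surj x (mt (hz x).2 hx) z ((hz z).1 hzc)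
    exact ⟨e s, by rw [← hs]; simp⟩

variable {Ω : Type*} [Group Ω] {S : Subgroup Ω} {F : FusionSystem S} {p : ℕ}

theorem conj_mem_of_abelian (hH : IsHeisenbergLike S) {E : Subgroup Ω} (hE : E ≤ S)
    (hZ : ∀ z : S, z ∈ Subgroup.center S → (z : Ω) ∈ E) : (E.subgroupOf S).Normal := by
  refine ⟨fun a ha g => ?_⟩
  have h1 : (g * a * g⁻¹ * a⁻¹ : S) ∈ E.subgroupOf S := hZ _ (hH.comm_mem g a)
  simpa using mul_mem h1 ha

theorem center_mem_of_centric (hc : ∀ {E : Subgroup Ω}, F.IsCentric E → centralizerIn S E ≤ E)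
    {E : Subgroup Ω} (hE : F.IsCentric E) (z : S) (hz : z ∈ Subgroup.center S) : (z : Ω) ∈ E :=
  hc hE ⟨z.2, Subgroup.mem_centralizer_iff.2 fun a ha =>
    congrArg Subtype.val (Subgroup.mem_center_iff.1 hz ⟨a, hE.1 ha⟩)⟩

theorem centralizerIn_le {E : Subgroup Ω} (hE : F.IsCentric E) : centralizerIn S E ≤ E :=
  hE.2 E (isConj_refl hE.1)

/-- A proper centric radical subgroup is abelian. -/
theorem abelian_of_radical [Finite S] [Fact p.Prime] (hS : IsPGroup p S) (hH : IsHeisenbergLike S)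
    {E : Subgroup Ω} (hc : F.IsCentric E) (hr : F.IsRadical p E) (hne : E ≠ S) :
    ∀ a b : E, a * b = b * a := by
  by_contra hab
  push Not at hab
  obtain ⟨a, b, hab⟩ := hab
  haveI := finite_of_le hc.1
  have hZ := center_mem_of_centric centralizerIn_le hc
  -- the centre of `E` is central in `S`
  have hcen : ∀ x : E, x ∈ Subgroup.center E → (⟨x, hc.1 x.2⟩ : S) ∈ Subgroup.center S := by
    intro x hx
    by_contra hxc
    refine hab (Subtype.ext (congrArg Subtype.val (hH.centralizer_comm _ hxc ⟨a, hc.1 a.2⟩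
      ⟨b, hc.1 b.2⟩ (Subtype.ext ?_) (Subtype.ext ?_)) :))
    · exact congrArg (fun e : E => (e : Ω)) (Subgroup.mem_center_iff.1 hx a)
    · exact congrArg (fun e : E => (e : Ω)) (Subgroup.mem_center_iff.1 hx b)
  have hinv : ∀ α ∈ F.autGroup E, ∀ (i : ℕ) (x : E),
      x ∈ (if i = 0 then ⊥ else Subgroup.center E) →
      α x ∈ (if i = 0 then ⊥ else Subgroup.center E) := by
    intro α _ i x hx
    split_ifs at hx ⊢
    · rw [Subgroup.mem_bot] at hx ⊢
      rw [hx, map_one]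
    · rw [Subgroup.mem_center_iff] at hx ⊢
      intro g
      obtain ⟨g, rfl⟩ := α.surjective g
      rw [← map_mul, ← map_mul, hx g]
  let D := chainStabilizer (F.autGroup E) 1 (fun i => if i = 0 then ⊥ else Subgroup.center E)
    (fun i => by by_cases h : i = 0 <;> simp [h]) hinv
  refine hne (le_antisymm hc.1 ?_)
  refine le_of_forall_Inn hS hc le_rfl Subgroup.le_normalizer fun s hs hsN => ?_
  have hA : E.normalizerMonoidHom ⟨s, hsN⟩ ∈ F.autGroup E :=
    autInducedBy_le_autGroup hc.1 (mem_autInducedBy_iff.2 ⟨s, hs, hsN, fun _ => rfl⟩)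
  refine mem_Inn_of_normal_pGroup hr (D := D) (chainStabilizer_normal _ _ _ _ _)
    (isPGroup_chainStabilizer (hS.to_le hc.1) _ _ _ (by simp) _ _) (α := ⟨_, hA⟩) ⟨fun x => ?_, ?_⟩
  · show x⁻¹ * E.normalizerMonoidHom ⟨s, hsN⟩ x ∈ Subgroup.center E
    rw [Subgroup.mem_center_iff]
    intro g
    have h1 := Subgroup.mem_center_iff.1 (hH.comm_mem (⟨x, hc.1 x.2⟩⁻¹ : S) ⟨s, hs⟩)
    apply Subtype.ext
    show (g : Ω) * ((x : Ω)⁻¹ * (s * x * s⁻¹)) = (x : Ω)⁻¹ * (s * x * s⁻¹) * g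
    have h2 := congrArg Subtype.val (h1 ⟨g, hc.1 g.2⟩)
    simpa [mul_assoc] using h2
  · intro i hi x hx
    obtain rfl : i = 0 := by omega
    simp only [zero_add, one_ne_zero, if_false] at hx
    have h1 := congrArg Subtype.val (Subgroup.mem_center_iff.1 (hcen x hx) ⟨s, hs⟩)
    show _ ∈ (⊥ : Subgroup E)
    rw [Subgroup.mem_bot, inv_mul_eq_one]
    apply Subtype.ext
    show (x : Ω) = s * x * s⁻¹
    exact eq_mul_inv_iff_mul_eq.2 (h1 : s * (x : Ω) = x * s).symm

/-- A proper centric radical subgroup contains a noncentral element. -/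
theorem exists_noncentral {E : Subgroup Ω} (hc : F.IsCentric E) (hne : E ≠ S) :
    ∃ w : E, (⟨w, hc.1 w.2⟩ : S) ∉ Subgroup.center S := by
  by_contra h
  push Not at h
  refine hne (le_antisymm hc.1 fun s hs => centralizerIn_le hc ⟨hs, ?_⟩)
  exact Subgroup.mem_centralizer_iff.2 fun a ha =>
    (congrArg Subtype.val (Subgroup.mem_center_iff.1 (h ⟨a, ha⟩) ⟨s, hs⟩)).symm

/-- It is the centralizer of each of its noncentral elements. -/
theorem mem_iff_commute [Finite S] [Fact p.Prime] (hS : IsPGroup p S) (hH : IsHeisenbergLike S)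
    {E : Subgroup Ω} (hc : F.IsCentric E) (hr : F.IsRadical p E) (hne : E ≠ S) (w : E)
    (hw : (⟨w, hc.1 w.2⟩ : S) ∉ Subgroup.center S) (y : Ω) (hy : y ∈ S) :
    y ∈ E ↔ y * w = w * y := by
  refine ⟨fun h => congrArg Subtype.val (abelian_of_radical hS hH hc hr hne ⟨y, h⟩ w), fun h => ?_⟩
  refine centralizerIn_le hc ⟨hy, Subgroup.mem_centralizer_iff.2 fun a ha => ?_⟩
  exact congrArg Subtype.val (hH.centralizer_comm _ hw ⟨a, hc.1 ha⟩ ⟨y, hy⟩
    (Subtype.ext (congrArg Subtype.val (abelian_of_radical hS hH hc hr hne ⟨a, ha⟩ w) :))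
    (Subtype.ext h))

/-- Its automizer fixes no nontrivial subgroup of `Z(S)`. -/
theorem eq_one_of_invariant [Finite S] [Fact p.Prime] (hS : IsPGroup p S) (hF : F.IsSaturated p)
    (hH : IsHeisenbergLike S) {E : Subgroup Ω} (hc : F.IsCentric E) (hr : F.IsRadical p E)
    (hne : E ≠ S) {Q : Subgroup E}
    (hQZ : ∀ x ∈ Q, (⟨x, hc.1 x.2⟩ : S) ∈ Subgroup.center S)
    (hQ : ∀ α ∈ F.autGroup E, ∀ x ∈ Q, (α : MulAut E) x ∈ Q) : Q = ⊥ := by
  by_contra hQ1
  obtain ⟨q, hqQ, hq1⟩ : ∃ q ∈ Q, q ≠ 1 := by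
    simpa [Subgroup.eq_bot_iff_forall] using hQ1
  haveI := finite_of_le hc.1
  have hab := abelian_of_radical hS hH hc hr hne
  have hZ := center_mem_of_centric centralizerIn_le hc
  have hn := conj_mem_of_abelian hH hc.1 hZ
  obtain ⟨⟨-, R, hR⟩, -⟩ :=
    automized_receptive hS hF (isFullyNormalized_of_normal (F := F) hc.1 hn)
  let ι : E →* S := Subgroup.inclusion hc.1
  let Zs : Subgroup E := (Subgroup.center S).comap ι
  let A := F.autGroup E
  have hnE : ∀ s ∈ S, s ∈ Subgroup.normalizer (E : Set Ω) := fun s hs =>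
    ((normalizerIn_eq_of_normal hc.1 hn).ge hs).2
  have hUmem : ∀ α : A, α ∈ (R : Subgroup A) ↔
      ∃ s ∈ S, ∀ x : E, (((α : MulAut E) x : E) : Ω) = s * x * s⁻¹ := by
    intro α
    rw [hR, Subgroup.mem_subgroupOf, mem_autInducedBy_iff]
    exact ⟨fun ⟨s, hs, _, h⟩ => ⟨s, hs, h⟩, fun ⟨s, hs, h⟩ => ⟨s, hs, hnE s hs, h⟩⟩
  -- `Aut_S(E)` stabilizes `1 ≤ Z(S) ≤ E`
  have hUfix : ∀ α ∈ (R : Subgroup A), (∀ x ∈ Zs, (α : MulAut E) x = x) ∧
      ∀ x : E, x⁻¹ * (α : MulAut E) x ∈ Zs := by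
    intro α hα
    obtain ⟨s, hs, h⟩ := (hUmem α).1 hα
    refine ⟨fun x hx => Subtype.ext ?_, fun x => ?_⟩
    · rw [h x]
      exact mul_inv_eq_iff_eq_mul.2 (congrArg Subtype.val (Subgroup.mem_center_iff.1 hx ⟨s, hs⟩))
    · show ι (x⁻¹ * (α : MulAut E) x) ∈ Subgroup.center S
      have e : ι (x⁻¹ * (α : MulAut E) x) = (ι x)⁻¹ * ⟨s, hs⟩ * (ι x)⁻¹⁻¹ * (⟨s, hs⟩ : S)⁻¹ := by
        apply Subtype.ext
        show (x : Ω)⁻¹ * (((α : MulAut E) x : E) : Ω) = (x : Ω)⁻¹ * s * (x : Ω)⁻¹⁻¹ * s⁻¹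
        rw [h x]
        simp [mul_assoc]
      rw [e]
      exact hH.comm_mem _ _
  -- `g` moving `Aut_S(E)`
  let Bad : Set A := {g | ∃ α ∈ (R : Subgroup A), g * α * g⁻¹ ∉ (R : Subgroup A)}
  have hbad : Bad.Nonempty := by
    by_contra hno
    rw [Set.not_nonempty_iff_eq_empty] at hno
    have hRn : (R : Subgroup A).Normal := ⟨fun α hα g => by
      by_contra h
      exact (Set.eq_empty_iff_forall_notMem.1 hno g) ⟨α, hα, h⟩⟩
    refine hne (le_antisymm hc.1 fun s hs => ?_)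
    have hα : E.normalizerMonoidHom ⟨s, hnE s hs⟩ ∈ A :=
      autInducedBy_le_autGroup hc.1 (mem_autInducedBy_iff.2 ⟨s, hs, hnE s hs, fun _ => rfl⟩)
    have hI := mem_Inn_of_normal_pGroup hr hRn R.isPGroup' (α := ⟨_, hα⟩)
      ((hUmem _).2 ⟨s, hs, fun _ => rfl⟩)
    rw [Inn_eq, mem_autInducedBy_iff] at hI
    obtain ⟨e, he, -, hev⟩ := hI
    refine centralizerIn_le hc ⟨hs, Subgroup.mem_centralizer_iff.2 fun a ha => ?_⟩
    have h1 : s * a * s⁻¹ = e * a * e⁻¹ := hev ⟨a, ha⟩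
    rw [show e * a = a * e from congrArg Subtype.val (hab ⟨e, he⟩ ⟨a, ha⟩), mul_inv_cancel_right,
      mul_inv_eq_iff_eq_mul] at h1
    exact h1.symm
  let im : A → Subgroup E := fun g => Zs.map ((g : MulAut E).toMonoidHom)
  obtain ⟨g, hg, hmax⟩ := Set.exists_max_image Bad (fun g => Nat.card ↥(Zs ⊓ im g))
    (Set.toFinite _) hbad
  obtain ⟨α₀, hα₀, hgα₀⟩ := hg
  -- `g` moves `Z(S)`
  have hgZ : ¬ im g ≤ Zs := by
    intro hle
    have heq : im g = Zs := Subgroup.eq_of_le_of_card_ge hle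
      (Subgroup.card_map_of_injective (g : MulAut E).injective).ge
    let B : Subgroup (MulAut E) := A ⊓
      { carrier := {α | ∀ x, α x ∈ Zs ↔ x ∈ Zs}
        one_mem' := fun x => Iff.rfl
        mul_mem' := fun {a b} ha hb x => (ha (b x)).trans (hb x)
        inv_mem' := fun {a} ha x => by
          have := (ha (a⁻¹ x)).symm
          rwa [show a (a⁻¹ x) = x from a.apply_symm_apply x] at this }
    have hinvB : ∀ α ∈ B, ∀ (i : ℕ) (x : E), x ∈ (if i = 0 then ⊥ else Zs) →
        α x ∈ (if i = 0 then ⊥ else Zs) := by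
      intro α hα i x hx
      split_ifs at hx ⊢
      · rw [Subgroup.mem_bot] at hx ⊢
        rw [hx, map_one]
      · exact (hα.2 x).2 hx
    let D := chainStabilizer B 1 (fun i => if i = 0 then ⊥ else Zs)
      (fun i => by by_cases h : i = 0 <;> simp [h]) hinvB
    have hDp : IsPGroup p D := isPGroup_chainStabilizer (hS.to_le hc.1) _ _ _ (by simp) _ _
    let DA : Subgroup A := (D.map B.subtype).subgroupOf A
    have hDAp : IsPGroup p DA := (hDp.map B.subtype).comap_subtype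
    have hmemD : ∀ α : A, (∀ x ∈ Zs, (α : MulAut E) x = x) →
        (∀ x : E, x⁻¹ * (α : MulAut E) x ∈ Zs) → α ∈ DA := by
      intro α h1 h2
      have hB : (α : MulAut E) ∈ B := ⟨α.2, fun x => ⟨fun hx => by
        have := mul_mem hx (Subgroup.inv_mem _ (h2 x))
        simpa using this, fun hx => by rw [h1 x hx]; exact hx⟩⟩
      refine ⟨⟨α, hB⟩, ⟨h2, fun i hi x hx => ?_⟩, rfl⟩
      obtain rfl : i = 0 := by omega
      simp only [zero_add, one_ne_zero, if_false] at hx
      simp [h1 x hx]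
    have hRD : (R : Subgroup A) ≤ DA := fun α hα => hmemD α (hUfix α hα).1 (hUfix α hα).2
    refine hgα₀ ((R.is_maximal' hDAp hRD).le (hmemD _ (fun x hx => ?_) fun x => ?_))
    · obtain ⟨z, hz, rfl⟩ := heq.ge hx
      simp [(hUfix α₀ hα₀).1 z hz]
    · refine heq.le ⟨((g : MulAut E).symm x)⁻¹ * (α₀ : MulAut E) ((g : MulAut E).symm x),
        (hUfix α₀ hα₀).2 _, ?_⟩
      simp
  obtain ⟨w, hwi, hwZ⟩ := SetLike.not_le_iff_exists.1 hgZ
  -- an element of `Aut_S(E)` multiplying `w` by `q`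
  obtain ⟨s, hs⟩ := hH.surj (ι w) hwZ (ι q) (hQZ q hqQ)
  let u : A := ⟨E.normalizerMonoidHom ⟨s, hnE s s.2⟩, autInducedBy_le_autGroup hc.1
    (mem_autInducedBy_iff.2 ⟨s, s.2, hnE s s.2, fun _ => rfl⟩)⟩
  have huR : u ∈ (R : Subgroup A) := (hUmem u).2 ⟨s, s.2, fun _ => rfl⟩
  have huw : (u : MulAut E) w = q * w := Subtype.ext (by
    show (s : Ω) * w * (s : Ω)⁻¹ = q * w
    have := congrArg Subtype.val hs
    exact mul_inv_eq_iff_eq_mul.1 this)
  have hqi : q ∈ im g := by
    refine ⟨(g : MulAut E)⁻¹ q, hQZ _ (hQ _ (g⁻¹).2 q hqQ), ?_⟩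
    exact (g : MulAut E).apply_symm_apply q
  -- the new element
  have hnew : g⁻¹ * u * g ∈ Bad := by
    by_contra hno
    have hnorm : ∀ α ∈ (R : Subgroup A), g⁻¹ * u * g * α * (g⁻¹ * u * g)⁻¹ ∈ (R : Subgroup A) := by
      intro α hα
      by_contra h
      exact hno ⟨α, hα, h⟩
    have hp : IsPGroup p ↥((R : Subgroup A) ⊔ Subgroup.zpowers (g⁻¹ * u * g)) := by
      obtain ⟨k, hk⟩ := R.isPGroup' ⟨u, huR⟩
      have hu : u ^ p ^ k = 1 := congrArg Subtype.val hk
      have hv : IsPGroup p (Subgroup.zpowers (g⁻¹ * u * g)) :=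
        IsPGroup.of_card_dvd_pow (n := k) (by
          rw [Nat.card_zpowers]
          refine orderOf_dvd_of_pow_eq_one ?_
          have := conj_pow (i := p ^ k) (a := g⁻¹) (b := u)
          rw [inv_inv] at this
          rw [this, hu, mul_one, inv_mul_cancel])
      refine R.isPGroup'.to_sup_of_normal_left' hv ?_
      rw [Subgroup.zpowers_le]
      refine Subgroup.mem_normalizer_fintype fun n hn => hnorm n hn
    have hmem : g⁻¹ * u * g ∈ (R : Subgroup A) :=
      (R.is_maximal' hp le_sup_left).le (Subgroup.mem_sup_right (Subgroup.mem_zpowers _))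
    obtain ⟨z, hz, hzw⟩ := hwi
    have h1 := (hUfix _ hmem).1 z hz
    simp only [Subgroup.coe_mul, Subgroup.coe_inv, MulAut.mul_apply] at h1
    have hzw' : (g : MulAut E) z = w := hzw
    rw [hzw'] at h1
    have h2 : (u : MulAut E) w = w := by
      exact ((MulEquiv.symm_apply_eq (g : MulAut E)).1 h1).trans hzw'
    rw [huw, mul_eq_right] at h2
    exact hq1 h2
  -- it has a larger intersection
  have hlt : (Zs ⊓ im g).map ((g : MulAut E)⁻¹).toMonoidHom < Zs ⊓ im (g⁻¹ * u * g) := by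
    refine lt_of_le_of_ne ?_ fun heq => ?_
    · rintro _ ⟨x, ⟨hxZ, z, hz, hzx⟩, rfl⟩
      have hzx' : (g : MulAut E) z = x := hzx
      refine ⟨?_, z, hz, ?_⟩
      · show (g : MulAut E)⁻¹ x ∈ Zs
        rw [← hzx', show (g : MulAut E)⁻¹ ((g : MulAut E) z) = z from
          (g : MulAut E).symm_apply_apply z]
        exact hz
      · show ((g⁻¹ * u * g : A) : MulAut E) z = (g : MulAut E)⁻¹ x
        simp only [Subgroup.coe_mul, Subgroup.coe_inv, MulAut.mul_apply, hzx']
        rw [(hUfix u huR).1 x hxZ]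
    · obtain ⟨z, hz, hzw⟩ := hwi
      have hzw' : (g : MulAut E) z = w := hzw
      obtain ⟨z', hz', hzq⟩ := hqi
      have hzq' : (g : MulAut E) z' = q := hzq
      have h1 : z ∈ Zs ⊓ im (g⁻¹ * u * g) := by
        refine ⟨hz, z'⁻¹ * z, mul_mem (Subgroup.inv_mem _ hz') hz, ?_⟩
        show ((g⁻¹ * u * g : A) : MulAut E) (z'⁻¹ * z) = z
        simp only [Subgroup.coe_mul, Subgroup.coe_inv, MulAut.mul_apply]
        refine (MulEquiv.symm_apply_eq (g : MulAut E)).2 ?_
        rw [map_mul (g : MulAut E), map_inv (g : MulAut E), hzw', hzq', map_mul, map_inv,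
          (hUfix u huR).1 q (hQZ q hqQ), huw, inv_mul_cancel_left]
      rw [← heq] at h1
      obtain ⟨x, ⟨hxZ, -⟩, hx⟩ := h1
      have hx' : x = w := by
        rw [← hzw', ← hx]
        exact ((g : MulAut E).apply_symm_apply x).symm
      exact hwZ (hx' ▸ hxZ)
  have h2 := Set.Finite.card_lt_card (Set.toFinite _) (SetLike.coe_ssubset_coe.2 hlt)
  have h3 := hmax _ hnew
  simp only [SetLike.coe_sort_coe] at h2
  rw [Subgroup.card_map_of_injective ((g : MulAut E)⁻¹).injective] at h2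
  omega

theorem mem_center_apply (α : MulAut S) {x : S} (hx : x ∈ Subgroup.center S) :
    α x ∈ Subgroup.center S := by
  rw [Subgroup.mem_center_iff] at hx ⊢
  intro g
  obtain ⟨g, rfl⟩ := α.surjective g
  rw [← map_mul, ← map_mul, hx g]

/-- With a nontrivial core the system is constrained. -/
theorem isConstrained_of_core_ne_bot [Finite S] [Fact p.Prime] (hS : IsPGroup p S)
    (hF : F.IsSaturated p) (hH : IsHeisenbergLike S) (hcore : F.core ≠ ⊥) : F.IsConstrained p := by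
  have hQn := CfsgLib.FusionFactor.isNormal_core F
  have hQsc := stronglyClosed_of_normal hQn
  have hself : F.IsCentric S := isCentric_self
  by_cases hess : ∀ P : Subgroup Ω, P ≠ S → ¬ F.IsEssential p P
  · refine ⟨hF, S, isNormal_of_stronglyClosed hS hF ⟨le_rfl, fun R _ φ hφ x => apply_mem hφ x⟩
      (fun P hP => ?_), hself⟩
    by_contra h
    exact hess P (fun e => h e.ge) hP
  push Not at hess
  obtain ⟨E, hES, hE⟩ := hess
  -- the core is not central
  obtain ⟨w, hwQ, hw⟩ : ∃ w : S, (w : Ω) ∈ F.core ∧ w ∉ Subgroup.center S := by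
    by_contra hno
    push Not at hno
    have hr := isRadical_of_essential hS hE
    have hle := le_of_normal_of_radical hS hQn hE.1 hr
    refine hcore ?_
    have := eq_one_of_invariant hS hF hH hE.1 hr hES (Q := F.core.subgroupOf E)
      (fun x hx => hno _ hx) fun α hα x hx => (stronglyClosed_aut_iff hQsc hα).2 hx
    rwa [Subgroup.subgroupOf_eq_bot, disjoint_iff, inf_eq_left.2 hle] at this
  -- so there is one proper essential subgroup
  have hiff : ∀ P : Subgroup Ω, F.IsEssential p P → P ≠ S → ∀ y ∈ S,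
      y ∈ P ↔ y * w = w * y := fun P hP hPS y hy => by
    have hr := isRadical_of_essential hS hP
    have hwP : (w : Ω) ∈ P := le_of_normal_of_radical hS hQn hP.1 hr hwQ
    exact mem_iff_commute hS hH hP.1 hr hPS ⟨w, hwP⟩ hw y hy
  refine ⟨hF, E, isNormal_of_essential hS hF hE.1.1 fun P hP => ?_, hE.1⟩
  rcases eq_or_ne P S with rfl | hPS
  · refine ⟨hE.1.1, fun α hα x hx => ?_⟩
    have hr := isRadical_of_essential hS hE
    have hwE : (w : Ω) ∈ E := le_of_normal_of_radical hS hQn hE.1 hr hwQ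
    have hαw : (α w : Ω) ∈ E :=
      le_of_normal_of_radical hS hQn hE.1 hr ((stronglyClosed_aut_iff hQsc hα).2 hwQ)
    refine (mem_iff_commute hS hH hE.1 hr hES ⟨α w, hαw⟩
      (fun h => hw ?_) (α x) (α x).2).2 ?_
    · have := mem_center_apply α.symm h
      rwa [α.symm_apply_apply] at this
    · have h1 : x * w = w * x := Subtype.ext ((hiff E hE hES x x.2).1 hx)
      exact congrArg Subtype.val (show α x * α w = α w * α x by rw [← map_mul, ← map_mul, h1])
  · have hP' := hP.resolve_left hPS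
    refine ⟨fun y hy => (hiff P hP' hPS y (hE.1.1 hy)).2 ((hiff E hE hES y (hE.1.1 hy)).1 hy),
      fun α _ x _ => ?_⟩
    exact (hiff E hE hES _ (hP'.1.1 (α x).2)).2 ((hiff P hP' hPS _ (hP'.1.1 (α x).2)).1 (α x).2)

end CfsgLib.FusionHeisenberg
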