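import Cfsg.Agent.FusionHeisenberg.Basic
import Cfsg.Agent.SL3Pres.Concrete

/-!
# The Sylow subgroup of `SL₃(K)` in defining characteristic
-/

set_option autoImplicit false

namespace CfsgLib.FusionHeisenberg

/-- The Heisenberg group over `K`. -/
@[ext]
structure Heis (K : Type*) where
  /-- The `(1,2)` entry. -/
  a : K
  /-- The `(2,3)` entry. -/
  b : K
  /-- The `(1,3)` entry. -/
  c : K

variable {K : Type*} [Field K]

instance : Group (Heis K) where
  mul x y := ⟨x.a + y.a, x.b + y.b, x.c + y.c + x.a * y.b⟩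
  one := ⟨0, 0, 0⟩
  inv x := ⟨-x.a, -x.b, -x.c + x.a * x.b⟩
  mul_assoc x y z := Heis.ext (add_assoc x.a y.a z.a) (add_assoc x.b y.b z.b)
    (show x.c + y.c + x.a * y.b + z.c + (x.a + y.a) * z.b =
      x.c + (y.c + z.c + y.a * z.b) + x.a * (y.b + z.b) by ring)
  one_mul x := Heis.ext (zero_add _) (zero_add _) (show 0 + x.c + 0 * x.b = x.c by ring)
  mul_one x := Heis.ext (add_zero _) (add_zero _) (show x.c + 0 + x.a * 0 = x.c by ring)
  inv_mul_cancel x := Heis.ext (neg_add_cancel _) (neg_add_cancel _)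
    (show -x.c + x.a * x.b + x.c + -x.a * x.b = 0 by ring)

theorem Heis.mul_def (x y : Heis K) : x * y = ⟨x.a + y.a, x.b + y.b, x.c + y.c + x.a * y.b⟩ := rfl

theorem Heis.inv_def (x : Heis K) : x⁻¹ = ⟨-x.a, -x.b, -x.c + x.a * x.b⟩ := rfl

theorem Heis.mem_center_iff (x : Heis K) :
    x ∈ Subgroup.center (Heis K) ↔ x.a = 0 ∧ x.b = 0 := by
  rw [Subgroup.mem_center_iff]
  constructor
  · intro h
    have h1 := congrArg Heis.c (h ⟨1, 0, 0⟩)
    have h2 := congrArg Heis.c (h ⟨0, 1, 0⟩)
    simp only [Heis.mul_def] at h1 h2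
    exact ⟨by linear_combination -h2, by linear_combination h1⟩
  · rintro ⟨ha, hb⟩ g
    ext <;> simp [Heis.mul_def, ha, hb, add_comm]

theorem Heis.commute_iff (x y : Heis K) : x * y = y * x ↔ x.a * y.b = y.a * x.b := by
  constructor
  · intro h
    have h1 := congrArg Heis.c h
    simp only [Heis.mul_def] at h1
    linear_combination h1
  · intro h
    ext <;> simp only [Heis.mul_def]
    · ring
    · ring
    · linear_combination h

theorem isHeisenbergLike_heis : IsHeisenbergLike (Heis K) := by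
  refine ⟨fun x y => ?_, fun w hw x y hx hy => ?_, fun w hw z hz => ?_⟩
  · rw [Heis.mem_center_iff]
    simp only [Heis.mul_def, Heis.inv_def]
    constructor <;> ring
  · rw [Heis.commute_iff] at hx hy ⊢
    rw [Heis.mem_center_iff, not_and_or] at hw
    rcases hw with h | h
    · refine mul_left_cancel₀ h ?_
      linear_combination y.a * hx - x.a * hy
    · refine mul_left_cancel₀ h ?_
      linear_combination y.b * hx - x.b * hy
  · rw [Heis.mem_center_iff] at hz
    rw [Heis.mem_center_iff, not_and_or] at hw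
    rcases hw with h | h
    · refine ⟨⟨0, -z.c / w.a, 0⟩, ?_⟩
      ext <;> simp only [Heis.mul_def, Heis.inv_def, hz.1, hz.2]
      · ring
      · ring
      · field_simp
        ring
    · refine ⟨⟨z.c / w.b, 0, 0⟩, ?_⟩
      ext <;> simp only [Heis.mul_def, Heis.inv_def, hz.1, hz.2]
      · ring
      · ring
      · field_simp
        ring

/-- The upper unitriangular embedding. -/
def heisHom : Heis K →* Matrix.SpecialLinearGroup (Fin 3) K where
  toFun x := ⟨!![1, x.a, x.c; 0, 1, x.b; 0, 0, 1], by simp [Matrix.det_fin_three]⟩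
  map_one' := by
    apply Subtype.ext
    show !![(1 : K), 0, 0; 0, 1, 0; 0, 0, 1] = 1
    ext i j
    fin_cases i <;> fin_cases j <;> simp
  map_mul' x y := by
    apply Subtype.ext
    show !![1, x.a + y.a, x.c + y.c + x.a * y.b; 0, 1, x.b + y.b; 0, 0, 1] =
      !![1, x.a, x.c; 0, 1, x.b; 0, 0, 1] * !![1, y.a, y.c; 0, 1, y.b; 0, 0, 1]
    ext i j
    fin_cases i <;> fin_cases j <;> simp [Matrix.mul_apply, Fin.sum_univ_three] <;> ring

theorem heisHom_injective : Function.Injective (heisHom : Heis K → _) := fun x y h => by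
  have h' := congrArg Subtype.val h
  exact Heis.ext (congrFun (congrFun h' 0) 1) (congrFun (congrFun h' 1) 2)
    (congrFun (congrFun h' 0) 2)

/-- A Sylow subgroup of `SL₃(K)` in defining characteristic is Heisenberg-like. -/
theorem isHeisenbergLike_sylow [Fintype K] (p : ℕ) [Fact p.Prime] [CharP K p]
    (T : Sylow p (Matrix.SpecialLinearGroup (Fin 3) K)) :
    IsHeisenbergLike ↥(T : Subgroup (Matrix.SpecialLinearGroup (Fin 3) K)) := by
  obtain ⟨n, -, hq⟩ := FiniteField.card K p
  let e₃ : Heis K ≃ K × K × K := ⟨fun x => (x.a, x.b, x.c), fun t => ⟨t.1, t.2.1, t.2.2⟩,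
    fun _ => rfl, fun _ => rfl⟩
  have hcard : Nat.card ↥(heisHom (K := K)).range = p ^ ((n : ℕ) * 3) := by
    rw [← Nat.card_congr (MonoidHom.ofInjective heisHom_injective).toEquiv, Nat.card_congr e₃,
      Nat.card_prod, Nat.card_prod, Nat.card_eq_fintype_card, hq, ← pow_add, ← pow_add]
    congr 1
    ring
  have hindex : ¬ p ∣ (heisHom (K := K)).range.index := by
    have h := (heisHom (K := K)).range.card_mul_index
    rw [hcard, CfsgLib.SL3Pres.card_SL_three, hq, ← pow_mul] at h
    have h' := Nat.eq_of_mul_eq_mul_left (pow_pos (Fact.out : p.Prime).pos _) h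
    rw [h', (Fact.out : p.Prime).dvd_mul, not_or]
    have hp2 := (Fact.out : p.Prime).two_le
    have key : ∀ i : ℕ, i ≠ 0 → ¬ p ∣ (p ^ (n : ℕ)) ^ i - 1 := by
      intro i hi hd
      have h1 : p ∣ (p ^ (n : ℕ)) ^ i := dvd_pow (dvd_pow_self p n.ne_zero) hi
      have h2 := Nat.dvd_sub h1 hd
      have h3 : 1 ≤ (p ^ (n : ℕ)) ^ i := Nat.one_le_pow _ _ (pow_pos (by omega) _)
      rw [Nat.sub_sub_self h3, Nat.dvd_one] at h2
      omega
    exact ⟨by simpa [← pow_mul] using key 2 two_ne_zero, by simpa [← pow_mul] using key 3 three_ne_zero⟩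
  let P := (IsPGroup.of_card hcard).toSylow hindex
  refine IsHeisenbergLike.congr ((MonoidHom.ofInjective (heisHom_injective (K := K))).trans ?_)
    isHeisenbergLike_heis
  exact (MulEquiv.subgroupCongr (rfl : (heisHom (K := K)).range = (P : Subgroup (Matrix.SpecialLinearGroup (Fin 3) K)))).trans (Sylow.equiv P T)

end CfsgLib.FusionHeisenberg
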